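/-
Direct images of bundles along a double cover of curves.
-/
import Groth.Agent.DCOmega.Main
import Groth.Agent.GenPush.Proj
import Groth.Agent.EulerMult.Basic
import Groth.Agent.W7Slope.Hom
import Groth.Agent.W7Slope.Twist
import Groth.Agent.W7Hull.AmpleSurj
import Groth.Agent.ResDesc.Main
import Groth.Agent.CurveRR.GlobGen

set_option autoImplicit false
set_option linter.style.haveILetI false
set_option linter.unusedSectionVars false
set_option backward.isDefEq.respectTransparency false
set_option backward.isDefEq.respectTransparency.types false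
set_option maxHeartbeats 1000000

universe u

open CategoryTheory CategoryTheory.Limits AlgebraicGeometry
open Groth.Agent.CohFinite (tmap)

noncomputable section

namespace Groth.Agent.DCStable

open W7Slope

variable {X Y : Scheme.{u}} (π : X ⟶ Y)

/-- `π_* O`. -/
abbrev pO : Y.Modules := (Scheme.Modules.pushforward π).obj (Coh.structureModule X)

/-- The canonical map `E ⟶ π_* π^* E` through the tensor product. -/
theorem unit_eq (E : Y.Modules) :
    tmap (ClSub.unitToPush π) E ≫ GenPush.theta π E =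
      (TMul.leftUnitIso E).hom ≫ (Scheme.Modules.pullbackPushforwardAdjunction π).unit.app E := by
  refine TMul.hom_ext fun U r w => ?_
  change (GenPush.theta π E).app U ((tmap (ClSub.unitToPush π) E).app U (TMul.tm r w)) =
    ProjMor.eta π E U ((TMul.leftUnitIso E).hom.app U (TMul.tm r w))
  rw [CohFinite.tmap_tm]
  refine (GenPush.theta_tm π E _ w).trans ?_
  refine Eq.trans ?_ (congrArg (ProjMor.eta π E U) (CurveRR.leftUnitIso_tm E r w)).symm
  exact (ProjMor.eta_smul π E r w).symm

/-- The decomposition of `π_* π^* E` along a splitting of `π_* O`. -/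
theorem exists_decomp [IsAffineHom π] {D₀ : Y.Modules} (ι : D₀ ⟶ pO π) [Mono ι]
    (T : pO π ⟶ Coh.structureModule Y) (hT : ClSub.unitToPush π ≫ T = 𝟙 _) (hι : ι ≫ T = 0)
    (hker : ∀ (U : Y.Opens) (s : Γ(X, π ⁻¹ᵁ U)), T.app U s = 0 → ∃ d, ι.app U d = s)
    (hP : FlatMod.IsFinLocFree (pO π)) (E : Y.Modules) (hE : Coh.IsQCoh E) :
    ∃ (q : (Scheme.Modules.pushforward π).obj ((Scheme.Modules.pullback π).obj E) ⟶ CohB1.tensorMod D₀ E)
      (R : (Scheme.Modules.pushforward π).obj ((Scheme.Modules.pullback π).obj E) ⟶ E),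
      ∀ (G : Y.Modules) (x : G ⟶ (Scheme.Modules.pushforward π).obj ((Scheme.Modules.pullback π).obj E)),
        x ≫ q = 0 → x = (x ≫ R) ≫ (Scheme.Modules.pullbackPushforwardAdjunction π).unit.app E := by
  haveI := GenPush.isIso_theta π E hE hP
  let l := kernel.lift T ι hι
  haveI : IsIso l := by
    rw [Scheme.Modules.Hom.isIso_iff_isIso_app]
    intro U
    rw [ConcreteCategory.isIso_iff_bijective]
    have hcomp : ∀ d, (kernel.ι T).app U (l.app U d) = ι.app U d := fun d =>
      show (l ≫ kernel.ι T).app U d = _ by rw [kernel.lift_ι]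
    constructor
    · intro d d' h
      have h' := congrArg ((kernel.ι T).app U) h
      rw [hcomp, hcomp] at h'
      exact Groth.Agent.QC.app_injective_of_mono ι U h'
    · intro s
      have hs : T.app U ((kernel.ι T).app U s) = 0 := by
        show (kernel.ι T ≫ T).app U s = 0
        rw [kernel.condition]
        rfl
      obtain ⟨d, hd⟩ := hker U _ hs
      exact ⟨d, Groth.Agent.QC.app_injective_of_mono (kernel.ι T) U ((hcomp d).trans hd)⟩
  let a := ClSub.unitToPush π
  have hz : (𝟙 (pO π) - T ≫ a) ≫ T = 0 := by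
    rw [Preadditive.sub_comp, Category.id_comp, Category.assoc, hT, Category.comp_id, sub_self]
  let p : pO π ⟶ D₀ := kernel.lift T _ hz ≫ inv l
  have hp : T ≫ a + p ≫ ι = 𝟙 _ := by
    have : inv l ≫ ι = kernel.ι T := by rw [IsIso.inv_comp_eq, kernel.lift_ι]
    simp only [p, Category.assoc, this, kernel.lift_ι]
    abel
  let th := GenPush.theta π E
  refine ⟨inv th ≫ tmap p E, inv th ≫ tmap T E ≫ (TMul.leftUnitIso E).hom, fun G x hx => ?_⟩
  have key : inv th ≫ tmap (T ≫ a + p ≫ ι) E ≫ th = 𝟙 _ := by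
    rw [hp, CohFinite.tmap_id, Category.id_comp, IsIso.inv_hom_id]
  rw [CohFinite.tmap_add, CohFinite.tmap_comp, CohFinite.tmap_comp, Preadditive.add_comp,
    Preadditive.comp_add, Category.assoc, Category.assoc, unit_eq] at key
  have := congrArg (fun t => x ≫ t) key
  simp only [Preadditive.comp_add, Category.comp_id] at this
  have hz2 : x ≫ inv th ≫ tmap p E ≫ tmap ι E ≫ th = 0 := by
    simpa only [Category.assoc, zero_comp] using congrArg (fun t => t ≫ tmap ι E ≫ th) hx
  rw [hz2, add_zero] at this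
  exact this.symm.trans (by simp only [Category.assoc])

variable (k : Type u) [Field k] [X.Over (Spec (CommRingCat.of k))] [Y.Over (Spec (CommRingCat.of k))]
  [IsIntegral Y] [IsProper (Y ↘ Spec (CommRingCat.of k))]
  [IsProper (X ↘ Spec (CommRingCat.of k))]
  (hπ : π ≫ (Y ↘ Spec (CommRingCat.of k)) = X ↘ Spec (CommRingCat.of k))

include hπ in
/-- `χ(X, π^*E)` in terms of the degree of `π_* O`. -/
theorem euler_pullback [IsAffineHom π] (hdimY : topologicalKrullDim Y ≤ 1) (hP : FlatMod.IsFinLocFreeOfRank 2 (pO π))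
    {E : Y.Modules} {r : ℕ} (hE : FlatMod.IsFinLocFreeOfRank r E) :
    Curv2.euler k X ((Scheme.Modules.pullback π).obj E) =
      (r : ℤ) * Curv2.deg k Y (pO π) 2 + 2 * Curv2.euler k Y E := by
  haveI := CurveRR.isNoetherian_of_proper k Y
  have hEc := CurveRR.isCoh_of_rank hE
  have hPf : FlatMod.IsFinLocFree (pO π) := fun x => let ⟨U, h⟩ := hP x; ⟨U, 2, h⟩
  haveI := GenPush.isIso_theta π E hEc.1 hPf
  have hq : Coh.IsQCoh ((Scheme.Modules.pullback π).obj E) :=
    (CurveRR.isCoh_of_rank (CurveRR.Multi.isFinLocFreeOfRank_pullback π hE)).1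
  rw [← EulerMult.euler_push_affine π hπ _ hq, ← CurveRR.euler_eq_of_iso (k := k) (asIso (GenPush.theta π E))]
  have h := CurveRR.euler_tensor (k := k) hdimY hP E hEc
  rw [show Module.finrank (Y.presheaf.stalk (genericPoint Y)) (E.presheaf.stalk (genericPoint Y)) = r from
    grk_of_rank hE] at h
  exact_mod_cast h

include hπ in
/-- `deg π^*E = 2 deg E`. -/
theorem deg_pullback [IsAffineHom π] (hdimY : topologicalKrullDim Y ≤ 1) (hP : FlatMod.IsFinLocFreeOfRank 2 (pO π))
    {E : Y.Modules} {r : ℕ} (hE : FlatMod.IsFinLocFreeOfRank r E) :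
    Curv2.deg k X ((Scheme.Modules.pullback π).obj E) r = 2 * Curv2.deg k Y E r := by
  have h₂ := euler_pullback π k hπ hdimY hP hE
  have h₀ := EulerMult.euler_push_affine π hπ (Coh.structureModule X) (Groth.Agent.QC.isQCoh_unit X)
  simp only [Curv2.deg] at h₂ ⊢
  rw [h₂]
  change Curv2.euler k Y (pO π) = _ at h₀
  rw [h₀]
  push_cast
  ring

include hπ in
/-- The rank and the degree of a direct image. -/
theorem rank_push [IsIntegral X] [IsFinite π] [Flat π] [LocallyOfFinitePresentation π]
    (hdimX : topologicalKrullDim X ≤ 1) (hdimY : topologicalKrullDim Y ≤ 1)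
    (hP : FlatMod.IsFinLocFreeOfRank 2 (pO π)) {L : Y.Modules} (hL : PicF.IsInvertible L)
    (hL0 : Curv2.deg k Y L 1 ≠ 0) {F : X.Modules} {s : ℕ} (hF : FlatMod.IsFinLocFreeOfRank s F) :
    FlatMod.IsFinLocFreeOfRank (2 * s) ((Scheme.Modules.pushforward π).obj F) := by
  haveI := CurveRR.isNoetherian_of_proper k X
  haveI := CurveRR.isNoetherian_of_proper k Y
  have hFf : FlatMod.IsFinLocFree F := fun x => let ⟨U, h⟩ := hF x; ⟨U, s, h⟩
  have hPf := ResDesc.isFinLocFree_push (f := π) hFf
  have hn := rank_of_isFinLocFree (LocFree.isQCoh_of_isFinLocFree hPf) hPf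
  have hFc := CurveRR.isCoh_of_rank hF
  have hL1 : FlatMod.IsFinLocFreeOfRank 1 L := CurveRR.isFinLocFreeOfRank_one hL
  have hXL := PicLoc.isInvertible_pullback π hL
  haveI := W7Hull.isIso_projMap_of_invertible π F hL
  have h₁ := CurveRR.euler_tensor (k := k) hdimY hn L (CurveRR.isCoh_of_inv hL)
  rw [show Module.finrank (Y.presheaf.stalk (genericPoint Y)) (L.presheaf.stalk (genericPoint Y)) = 1 from
      grk_of_rank hL1, CurveRR.euler_eq_of_iso (k := k) (asIso (CohFinite.projMap π F L)),
    EulerMult.euler_push_affine π hπ _ (CurveRR.isCoh_tensor' hFc (CurveRR.isCoh_of_inv hXL)).1] at h₁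
  have h₂ := CurveRR.euler_tensor (k := k) hdimX hF _ (CurveRR.isCoh_of_inv hXL)
  rw [show Module.finrank (X.presheaf.stalk (genericPoint X))
      (((Scheme.Modules.pullback π).obj L).presheaf.stalk (genericPoint X)) = 1 from
      grk_of_rank (CurveRR.Multi.isFinLocFreeOfRank_pullback π hL1)] at h₂
  have h₃ := deg_pullback π k hπ hdimY hP hL1
  have h₄ := EulerMult.euler_push_affine π hπ F hFc.1
  rw [h₂] at h₁
  simp only [Curv2.deg, h₄] at h₁ h₃ hL0
  push_cast at h₁ h₃ hL0
  have key : ((grk ((Scheme.Modules.pushforward π).obj F) : ℤ) - 2 * s) *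
      (Curv2.euler k Y L - Curv2.euler k Y (Coh.structureModule Y)) = 0 := by
    linear_combination (s : ℤ) * h₃ - h₁
  have hne : Curv2.euler k Y L - Curv2.euler k Y (Coh.structureModule Y) ≠ 0 := fun h => hL0 (by linarith)
  have := (mul_eq_zero.1 key).resolve_right hne
  rw [show 2 * s = grk ((Scheme.Modules.pushforward π).obj F) by omega]
  exact hn

include hπ in
/-- The degree of a direct image. -/
theorem deg_push [IsAffineHom π] {F : X.Modules} {s : ℕ} (hF : FlatMod.IsFinLocFreeOfRank s F) :
    Curv2.deg k Y ((Scheme.Modules.pushforward π).obj F) (2 * s) =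
      Curv2.deg k X F s + (s : ℤ) * Curv2.deg k Y (pO π) 2 := by
  have h := EulerMult.euler_push_affine π hπ F (CurveRR.isCoh_of_rank hF).1
  have h₀ := EulerMult.euler_push_affine π hπ (Coh.structureModule X) (Groth.Agent.QC.isQCoh_unit X)
  change Curv2.euler k Y (pO π) = _ at h₀
  simp only [Curv2.deg, h, h₀]
  push_cast
  ring

end Groth.Agent.DCStable

end
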