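/-
Stability under ramified double covers.
-/
import Groth.Agent.DCStable.Push
import Groth.Agent.DCOmega.Descend
import Groth.Agent.S1478
import Groth.Agent.FlatFunLib.ModCond

set_option autoImplicit false
set_option linter.style.haveILetI false
set_option linter.unusedSectionVars false
set_option backward.isDefEq.respectTransparency false
set_option backward.isDefEq.respectTransparency.types false
set_option maxHeartbeats 1000000

universe u

open CategoryTheory CategoryTheory.Limits AlgebraicGeometry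
open Groth.Agent.CohFinite (tmap)

noncomputable section

namespace Groth.Agent.DCStable

open W7Slope

variable (k : Type u) [Field k] [IsAlgClosed k] [CharZero k] {X Y : Scheme.{u}}
  [X.Over (Spec (CommRingCat.of k))] [Y.Over (Spec (CommRingCat.of k))]
  [IsIntegral X] [IsProper (X ↘ Spec (CommRingCat.of k))] [Smooth (X ↘ Spec (CommRingCat.of k))]
  [IsIntegral Y] [IsProper (Y ↘ Spec (CommRingCat.of k))] [Smooth (Y ↘ Spec (CommRingCat.of k))]
  (π : X ⟶ Y) [IsFinite π] [Flat π]

theorem deg_structure : Curv2.deg k X (Coh.structureModule X) 1 = 0 := by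
  simp [Curv2.deg]

/-- The trace zero part of `π_* O` for a ramified double cover has negative degree. -/
theorem exists_split_neg (hdimX : topologicalKrullDim X = 1) (hdimY : topologicalKrullDim Y = 1)
    (hπ : π ≫ (Y ↘ Spec (CommRingCat.of k)) = X ↘ Spec (CommRingCat.of k))
    (hrk : ∀ y : Y, π.finrank y = 2) (hram : ¬ Etale π) :
    ∃ (D₀ : Y.Modules) (ι : D₀ ⟶ pO π) (T : pO π ⟶ Coh.structureModule Y),
      Mono ι ∧ PicF.IsInvertible D₀ ∧ FlatMod.IsFinLocFreeOfRank 2 (pO π) ∧
      ClSub.unitToPush π ≫ T = 𝟙 _ ∧ ι ≫ T = 0 ∧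
      (∀ (U : Y.Opens) (s : Γ(X, π ⁻¹ᵁ U)), T.app U s = 0 → ∃ d, ι.app U d = s) ∧
      Curv2.deg k Y (pO π) 2 = Curv2.deg k Y D₀ 1 ∧ Curv2.deg k Y D₀ 1 < 0 := by
  haveI := CurveRR.isNoetherian_of_proper k X
  haveI := CurveRR.isNoetherian_of_proper k Y
  haveI : LocallyOfFinitePresentation π := LocallyOfFinitePresentation.iff_locallyOfFiniteType.mpr inferInstance
  have h2 : (2 : k) ≠ 0 := two_ne_zero
  have e := GenusInsep.apply_genericPoint (k := k) hdimX hdimY π
  have hregY : ∀ y : Y, IsRegularLocalRing (Y.presheaf.stalk y) := fun y =>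
    SmLocalST.isRegularLocalRing_stalk_of_smooth_field (Y ↘ Spec (CommRingCat.of k)) y
  obtain ⟨D₀, ι, T, τ, hT, hι, hmono, hD, hker, hτ, hTτ, -⟩ :=
    DCOmega.exists_split k π hπ hdimY.le hregY h2 hrk
  haveI := hmono
  have hP : FlatMod.IsFinLocFreeOfRank 2 (pO π) := FEtRank.isFinLocFreeOfRank_of_finrank_eq π hrk
  have hO : FlatMod.IsFinLocFreeOfRank 1 (Coh.structureModule Y) :=
    CurveRR.isFinLocFreeOfRank_one (PicLoc.isInvertible_structureModule Y)
  have hD1 : FlatMod.IsFinLocFreeOfRank 1 D₀ := CurveRR.isFinLocFreeOfRank_one hD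
  let S := ShortComplex.mk ι T hι
  have hS : S.ShortExact :=
    { exact := by
        refine ShortComplex.exact_of_f_is_kernel _ ?_
        let l := kernel.lift T ι hι
        haveI : IsIso l := by
          rw [Scheme.Modules.Hom.isIso_iff_isIso_app]
          intro U
          rw [ConcreteCategory.isIso_iff_bijective]
          have hcomp : ∀ d, (kernel.ι T).app U (l.app U d) = ι.app U d := fun d =>
            show (l ≫ kernel.ι T).app U d = _ by rw [kernel.lift_ι]
          refine ⟨fun d d' h => ?_, fun s => ?_⟩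
          · have h' := congrArg ((kernel.ι T).app U) h
            rw [hcomp, hcomp] at h'
            exact Groth.Agent.QC.app_injective_of_mono ι U h'
          · have hs : T.app U ((kernel.ι T).app U s) = 0 := by
              show (kernel.ι T ≫ T).app U s = 0
              rw [kernel.condition]
              rfl
            obtain ⟨d, hd⟩ := hker U _ hs
            exact ⟨d, Groth.Agent.QC.app_injective_of_mono (kernel.ι T) U ((hcomp d).trans hd)⟩
        exact IsLimit.ofIsoLimit (kernelIsKernel T) (Fork.ext (asIso l).symm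
          (by show inv l ≫ ι = kernel.ι T; rw [IsIso.inv_comp_eq, kernel.lift_ι]))
      mono_f := hmono
      epi_g := (SplitEpi.mk (ClSub.unitToPush π) hT).epi }
  have hdeg : Curv2.deg k Y (pO π) 2 = Curv2.deg k Y D₀ 1 := by
    have h1 : Coh.IsCoh S.X₁ := CurveRR.isCoh_of_rank (E := D₀) hD1
    have h2 : Coh.IsCoh S.X₂ := CurveRR.isCoh_of_rank (E := pO π) hP
    have h3 : Coh.IsCoh S.X₃ := CurveRR.isCoh_of_rank (E := Coh.structureModule Y) hO
    have h : cdeg k S.X₂ = cdeg k S.X₁ + cdeg k S.X₃ := cdeg_add (k := k) (X := Y) hS h1 h2 h3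
    change cdeg k (pO π) = cdeg k D₀ + cdeg k (Coh.structureModule Y) at h
    rw [deg_eq hP, deg_eq hD1, h, ← deg_eq hO, deg_structure k, add_zero]
  refine ⟨D₀, ι, T, hmono, hD, hP, hT, hι, hker, hdeg, ?_⟩
  obtain ⟨ρ⟩ := DCOmega.exists_iso_fitt k π hπ h2 hrk ι T τ hT hι hD hker hτ hTτ
  have hJ : FlatMod.IsFinLocFreeOfRank 1 ((Scheme.Modules.pullback π).obj D₀) :=
    CurveRR.Multi.isFinLocFreeOfRank_pullback π hD1
  have hJd := deg_pullback π k hπ hdimY.le hP hD1
  let j : (Scheme.Modules.pullback π).obj D₀ ⟶ Coh.structureModule X :=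
    ρ.inv ≫ ClSub.idealModι (Fitt.sheafIdeal (Omega.sheaf π) 0)
  haveI : Mono (ClSub.idealModι (Fitt.sheafIdeal (Omega.sheaf π) 0)) :=
    inferInstanceAs (Mono (kernel.ι _))
  haveI : Mono j := mono_comp _ _
  have hOX : FlatMod.IsFinLocFreeOfRank 1 (Coh.structureModule X) :=
    CurveRR.isFinLocFreeOfRank_one (PicLoc.isInvertible_structureModule X)
  obtain ⟨hle, heq⟩ := deg_le_of_mono k (regCurve_of_smooth (k := k) hdimX) hJ hOX j
  rw [hJd, deg_structure k] at hle heq
  rcases lt_or_eq_of_le hle with h | h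
  · linarith
  exfalso
  haveI := heq h
  -- the canonical map of differentials is then an isomorphism
  have hr : π.residueDegree (genericPoint X) ≠ 0 :=
    (W7Nef.residueDegree_pos k π π.isClosedMap hdimX hdimY e).ne'
  obtain ⟨U, hU, hE⟩ := W7Cover.exists_etale_open π e hr (by
    letI := (π.residueFieldMap (genericPoint X)).hom.toAlgebra
    haveI : Module.Finite (Y.residueField (π (genericPoint X))) (X.residueField (genericPoint X)) :=
      Module.finite_of_finrank_pos (Nat.pos_of_ne_zero hr)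
    haveI : CharZero (Y.residueField (π (genericPoint X))) :=
      charZero_of_injective_ringHom (((Scheme.ΓSpecIso (CommRingCat.of k)).inv ≫
        (Y ↘ Spec (CommRingCat.of k)).appTop ≫ Y.presheaf.germ ⊤ (π (genericPoint X)) trivial ≫
          Y.residue (π (genericPoint X))).hom.injective)
    infer_instance)
  haveI := hE
  have hIX := CurveOmega.isInvertible_omega k X hdimX (CurveRR.h0_structure k X)
  have hIY := CurveOmega.isInvertible_omega k Y hdimY (CurveRR.h0_structure k Y)
  rw [← hπ] at hIX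
  obtain ⟨c, p, w, -, hS'⟩ := Hurwitz.exists_shortExact k (Y ↘ Spec (CommRingCat.of k)) π hIX hIY U hU
  have hIP := PicLoc.isInvertible_pullback π hIY
  have hF : Coh.IsCoh (Omega.sheaf π) := CohFinite.isCoh_of_iso
    (IsColimit.coconePointUniqueUpToIso (cokernelIsCokernel c) hS'.gIsCokernel)
    (QC.isCoh_cokernel (CurveRR.isCoh_of_inv hIP).1 (CurveRR.isCoh_of_inv hIX) c)
  obtain ⟨θ⟩ := FittInv.exists_iso hIP hIX hF.1 hF.2 c p w hS'
  haveI : IsIso (ClSub.idealModι (Fitt.sheafIdeal (Omega.sheaf π) 0)) :=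
    IsIso.of_isIso_comp_left ρ.inv _
  let i₁ : (Scheme.Modules.pullback π).obj (Omega.sheaf (Y ↘ Spec (CommRingCat.of k))) ≅
      Omega.sheaf (π ≫ (Y ↘ Spec (CommRingCat.of k))) :=
    θ.symm ≪≫ PicGrp.tensorModIso (Iso.refl _) (asIso (ClSub.idealModι _)) ≪≫ TMul.commIso _ _ ≪≫
      TMul.leftUnitIso _
  haveI : Mono c := hS'.mono_f
  haveI : IsIso c := (deg_le_of_mono k (regCurve_of_smooth (k := k) hdimX) (CurveRR.isFinLocFreeOfRank_one hIP)
    (CurveRR.isFinLocFreeOfRank_one hIX) c).2 (deg_iso i₁ 1)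
  have hz : IsZero (Omega.sheaf π) := by
    haveI : Epi p := hS'.epi_g
    exact IsZero.of_epi_eq_zero p ((cancel_epi c).1 (by rw [w, comp_zero]))
  haveI : FormallyUnramified π := (Groth.Agent.S1478.result π).2 hz
  exact hram (Etale.iff_flat_and_formallyUnramified.2 ⟨inferInstance, inferInstance, inferInstance⟩)

/-- Stability of the pullback. -/
theorem stable_pullback (hdimX : topologicalKrullDim X = 1) (hdimY : topologicalKrullDim Y = 1)
    (hπ : π ≫ (Y ↘ Spec (CommRingCat.of k)) = X ↘ Spec (CommRingCat.of k))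
    (hrk : ∀ y : Y, π.finrank y = 2) (hram : ¬ Etale π)
    {r : ℕ} {E : Y.Modules} (hE : FlatMod.IsFinLocFreeOfRank r E) (hst : ModFun.IsSlopeStable k Y E r)
    {F : X.Modules} {r' : ℕ} (i : F ⟶ (Scheme.Modules.pullback π).obj E) [Mono i]
    (hr'0 : 0 < r') (hr'r : r' < r) (hF : FlatMod.IsFinLocFreeOfRank r' F) :
    Curv2.deg k X F r' * (r : ℤ) < Curv2.deg k X ((Scheme.Modules.pullback π).obj E) r * (r' : ℤ) := by
  haveI := CurveRR.isNoetherian_of_proper k X
  haveI := CurveRR.isNoetherian_of_proper k Y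
  haveI : LocallyOfFinitePresentation π := LocallyOfFinitePresentation.iff_locallyOfFiniteType.mpr inferInstance
  obtain ⟨D₀, ι, T, hmono, hD, hP, hT, hι, hker, hdP, hd⟩ := exists_split_neg k π hdimX hdimY hπ hrk hram
  haveI := hmono
  have hY := regCurve_of_smooth (k := k) hdimY
  have hPf : FlatMod.IsFinLocFree (pO π) := fun x => let ⟨U, h⟩ := hP x; ⟨U, 2, h⟩
  have hEc := CurveRR.isCoh_of_rank hE
  obtain ⟨q, R, hqR⟩ := exists_decomp π ι T hT hι hker hPf E hEc.1
  have hpF := rank_push π k hπ hdimX.le hdimY.le hP hD hd.ne hF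
  let adj := Scheme.Modules.pullbackPushforwardAdjunction π
  haveI : (Scheme.Modules.pushforward π).IsRightAdjoint := adj.isRightAdjoint
  let i' := (Scheme.Modules.pushforward π).map i
  haveI : Mono i' := inferInstanceAs (Mono ((Scheme.Modules.pushforward π).map i))
  have hQ : FlatMod.IsFinLocFreeOfRank r (CohB1.tensorMod D₀ E) :=
    rank_iso (TMul.commIso E D₀) (rank_tensor_inv hE hD)
  obtain ⟨I, p, iI, hp, hiI, -, hI, hK, hab, hbr, hsum, -⟩ := exists_image k hY hpF hQ (i' ≫ q)
  haveI := hiI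
  set a := grk (kernel (i' ≫ q))
  set b := grk I
  let kR : kernel (i' ≫ q) ⟶ E := (kernel.ι (i' ≫ q) ≫ i') ≫ R
  have hkR : kernel.ι (i' ≫ q) ≫ i' = kR ≫ adj.unit.app E :=
    hqR _ _ (by rw [Category.assoc]; exact kernel.condition _)
  haveI : Mono kR := by
    haveI : Mono (kR ≫ adj.unit.app E) := hkR ▸ mono_comp _ _
    exact mono_of_mono kR (adj.unit.app E)
  have ha : a ≤ r' := by
    have hfac : (adj.homEquiv _ _).symm (kernel.ι (i' ≫ q)) ≫ i = (Scheme.Modules.pullback π).map kR := by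
      refine (adj.homEquiv_naturality_right_symm _ _).symm.trans ?_
      rw [hkR, adj.homEquiv_counit, Functor.map_comp, Category.assoc, adj.left_triangle_components,
        Category.comp_id]
    haveI : Mono ((Scheme.Modules.pullback π).map kR) := FlatFunLib.mono_pullback_of_flat π kR
    haveI : Mono ((adj.homEquiv _ _).symm (kernel.ι (i' ≫ q)) ≫ i) := hfac ▸ inferInstance
    haveI : Mono ((adj.homEquiv _ _).symm (kernel.ι (i' ≫ q))) := mono_of_mono _ i
    have h := grk_le_of_mono k ((adj.homEquiv _ _).symm (kernel.ι (i' ≫ q))) (CurveRR.isCoh_of_rank hF)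
    rwa [grk_of_rank hF, grk_of_rank (CurveRR.Multi.isFinLocFreeOfRank_pullback π hK)] at h
  -- the twisted image lies in `E`
  obtain ⟨Δ, hΔ, ⟨ε⟩⟩ := SymAlg.exists_inverse hD
  have hd0 : Curv2.deg k Y D₀ 1 + Curv2.deg k Y Δ 1 = 0 := by
    have h := deg_twist (k := k) hdimY.le (CurveRR.isFinLocFreeOfRank_one hD) hΔ
    rw [deg_iso (k := k) ε 1, deg_structure k, Nat.cast_one, one_mul] at h
    linarith
  let J : CohB1.tensorMod I Δ ⟶ E := tmap iI Δ ≫
    ((PicGrp.tensorModIso (TMul.commIso D₀ E) (Iso.refl Δ)) ≪≫ TMul.assocIso E D₀ Δ ≪≫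
      PicGrp.tensorModIso (Iso.refl E) ε ≪≫ TMul.commIso E _ ≪≫ TMul.leftUnitIso E).hom
  haveI : Mono (tmap iI Δ) := mono_tmap hΔ iI
  haveI : Mono J := mono_comp _ _
  have hss := ss_of_slopeStable k hY hE hst
  have hJ := sub_le k hss J (rank_tensor_inv hI hΔ)
  rw [deg_twist (k := k) hdimY.le hI hΔ] at hJ
  have hK' := sub_le k hss kR hK
  have hpush := deg_push π k hπ hF
  rw [hdP] at hpush
  rw [deg_pullback π k hπ hdimY.le hP hE]
  set d := Curv2.deg k Y D₀ 1
  have hab' : (a : ℤ) + b = 2 * r' := by exact_mod_cast hab.symm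
  have ha' : (a : ℤ) ≤ r' := by exact_mod_cast ha
  by_contra hcon
  push_neg at hcon
  have hr0 : (0 : ℤ) < r := by exact_mod_cast hr'0.trans hr'r
  have hΔd : Curv2.deg k Y Δ 1 = -d := by linarith
  rw [hΔd] at hJ
  set e := Curv2.deg k Y E r
  set f := Curv2.deg k X F r'
  set dK := Curv2.deg k Y (kernel (i' ≫ q)) a
  set dI := Curv2.deg k Y I b
  have hs : dK + dI = f + (r' : ℤ) * d := by linarith
  have key : f * r + (r' : ℤ) * d * r ≤ 2 * e * r' + (b : ℤ) * d * r := by
    have h₁ : (dK + dI) * r = f * r + (r' : ℤ) * d * r := by rw [hs]; ring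
    have h₂ : e * ((a : ℤ) + b) = 2 * e * r' := by rw [hab']; ring
    linarith
  have hb : (b : ℤ) ≤ r' := by
    by_contra hb
    push_neg at hb
    nlinarith [mul_pos (mul_pos hr0 (neg_pos.2 hd)) (sub_pos.2 hb)]
  have haeq : a = r' := by omega
  have hstr : dK * (r : ℤ) < e * (a : ℤ) :=
    hst (kernel (i' ≫ q)) a kR inferInstance (by omega) (by omega) hK
  have hbz : (b : ℤ) = r' := by linarith
  have haz : (a : ℤ) = r' := by linarith
  rw [hbz] at hJ
  rw [haz] at hstr
  have h₁ : (dK + dI) * r = f * r + (r' : ℤ) * d * r := by rw [hs]; ring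
  linarith

end Groth.Agent.DCStable

end
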